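import Mathlib
import Groth.Prelude
import Groth.Agent.Lib.Helper5.Imp.Imp7
import Groth.Agent.Lib.Helper5.PB.PB12
import Groth.Agent.Lib.Helper5.PB.PB8

set_option autoImplicit false
universe u

open EGA41 IsLocalRing TensorProduct

namespace Groth.Agent.H5.Art

section A1
variable (p : ℕ) [hpp : Fact p.Prime] {k : Type u} [Field k] [CharP k p] {ι : Type u} (x : ι → k)

include hpp in
/-- a subring containing all `p`-th powers and a system of `p`-generators (over the prime field)
is everything. -/
theorem subring_eq_top_of_pGenerating (hx : IsPGenerating p (⊥ : Subfield k) x)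
    (R : Subring k) (h1 : ∀ c : k, c ^ p ∈ R) (h2 : ∀ i, x i ∈ R) : R = ⊤ := by
  have h := (Groth.Agent.H2.PGen.adjoin_eq_top_iff p (A := (⊥ : Subfield k)) x).mpr hx
  have hpp' : ∀ r : k, r ∈ pPowerSubalgebra p (⊥ : Subfield k) k → r ∈ R := by
    intro r hr
    unfold pPowerSubalgebra at hr
    induction hr using Algebra.adjoin_induction with
    | mem y hy =>
      obtain ⟨c, rfl⟩ := hy
      exact h1 c
    | algebraMap f =>
      show (f : k) ∈ R
      obtain ⟨n, hn⟩ := (mem_bot_iff_intCast p k).mp f.2
      rw [← hn]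
      exact intCast_mem R n
    | add a b _ _ ha hb => exact R.add_mem ha hb
    | mul a b _ _ ha hb => exact R.mul_mem ha hb
  have key : ∀ b : k, b ∈ Algebra.adjoin (pPowerSubalgebra p (⊥ : Subfield k) k) (Set.range x) →
      b ∈ R := by
    intro b hb
    induction hb using Algebra.adjoin_induction with
    | mem y hy =>
      obtain ⟨i, rfl⟩ := hy
      exact h2 i
    | algebraMap r => exact hpp' _ r.2
    | add a b _ _ ha hb => exact R.add_mem ha hb
    | mul a b _ _ ha hb => exact R.mul_mem ha hb
  rw [eq_top_iff]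
  intro b _
  apply key
  rw [h]; exact Algebra.mem_top

include hpp in
theorem closure_pow_union_eq_top (hx : IsPGenerating p (⊥ : Subfield k) x) (N : ℕ) :
    Subring.closure (Set.range (fun c : k => c ^ p ^ N) ∪ Set.range x) = ⊤ := by
  induction N with
  | zero =>
    rw [eq_top_iff]
    intro b _
    exact Subring.subset_closure (Or.inl ⟨b, by simp⟩)
  | succ N ih =>
    set R := Subring.closure (Set.range (fun c : k => c ^ p ^ (N + 1)) ∪ Set.range x) with hR
    apply subring_eq_top_of_pGenerating p x hx R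
    · intro c
      have hc : c ∈ Subring.closure (Set.range (fun c : k => c ^ p ^ N) ∪ Set.range x) := by
        rw [ih]; exact Subring.mem_top c
      induction hc using Subring.closure_induction with
      | mem y hy =>
        rcases hy with ⟨d, rfl⟩ | ⟨i, rfl⟩
        · apply Subring.subset_closure
          left
          refine ⟨d, ?_⟩
          show d ^ p ^ (N + 1) = (d ^ p ^ N) ^ p
          rw [← pow_mul, pow_succ]
        · exact R.pow_mem (Subring.subset_closure (Or.inr ⟨i, rfl⟩)) p
      | zero => rw [zero_pow hpp.out.ne_zero]; exact R.zero_mem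
      | one => rw [one_pow]; exact R.one_mem
      | add a b _ _ ha hb => rw [add_pow_char]; exact R.add_mem ha hb
      | neg a _ ha =>
        rw [neg_pow]
        exact R.mul_mem (R.pow_mem (R.neg_mem R.one_mem) p) ha
      | mul a b _ _ ha hb => rw [mul_pow]; exact R.mul_mem ha hb
    · intro i
      exact Subring.subset_closure (Or.inr ⟨i, rfl⟩)

end A1

section A2
variable (p : ℕ) [hpp : Fact p.Prime] {k Λ : Type u} [Field k] [CharP k p] [CommRing Λ] [Algebra k Λ]
  [IsArtinianRing Λ] [IsLocalRing Λ]

theorem isNilpotent_maximalIdeal : IsNilpotent (maximalIdeal Λ) := by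
  have h := IsArtinianRing.isNilpotent_jacobson_bot (R := Λ)
  rwa [IsLocalRing.jacobson_eq_maximalIdeal ⊥ bot_ne_top] at h

include hpp in
/-- **Coefficient field adapted to `k`**: a ring section `σ` of `Λ → K` such that the image of `k`
in `Λ` is contained in any subring containing `σ(k̄)` and finitely many prescribed elements. -/
theorem exists_section
    (hH : Module.Finite (ResidueField Λ) (Algebra.H1Cotangent k (ResidueField Λ))) :
    ∃ σ : ResidueField Λ →+* Λ, (∀ c, residue Λ (σ c) = c) ∧ ∃ Y : Finset k, ∀ S : Subring Λ,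
      (∀ a : k, σ (algebraMap k (ResidueField Λ) a) ∈ S) → (∀ y ∈ Y, algebraMap k Λ y ∈ S) →
      ∀ a : k, algebraMap k Λ a ∈ S := by
  classical
  haveI : CharP (ResidueField Λ) p :=
    charP_of_injective_algebraMap (algebraMap k (ResidueField Λ)).injective p
  haveI : CharP Λ p := charP_of_injective_algebraMap (algebraMap k Λ).injective p
  -- imperfection finite
  have hfin : Module.Finite (ResidueField Λ) (EGA41.imperfection ℤ k (ResidueField Λ)) := by
    have hex := Algebra.H1Cotangent.exact_δ_mapBaseChange ℤ k (ResidueField Λ)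
    have h1 : EGA41.imperfection ℤ k (ResidueField Λ) =
        LinearMap.range (Algebra.H1Cotangent.δ ℤ k (ResidueField Λ)) := by
      unfold EGA41.imperfection
      exact hex.linearMap_ker_eq
    rw [h1]
    infer_instance
  obtain ⟨B, hB, S, hS, hSfin, -⟩ := Groth.Agent.H5.Imp.exists_selection_charP p hfin
  haveI : PerfectField (⊥ : Subfield k) := CoeffUniq.perfectField_bot k
  haveI : CharP (⊥ : Subfield k) p :=
    (RingHom.charP_iff (⊥ : Subfield k).subtype Subtype.val_injective p).mpr inferInstance
  haveI : PerfectRing (⊥ : Subfield k) p := PerfectField.toPerfectRing p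
  obtain ⟨B', hSB', hB'⟩ := H5.PB.exists_pBasis_of_isPIndependent p
    (fun i : S => algebraMap k (ResidueField Λ) ((i : ↥B) : k)) hS
  have hinj := H5.PB.injective_of_isPIndependent p
    (fun i : S => algebraMap k (ResidueField Λ) ((i : ↥B) : k)) hS hpp.out.one_lt
  have hlift := (H5.PB.main4541 (p := p) (A := (⊥ : Subfield k)) (Subtype.val : B' → ResidueField Λ)
    hB').2 Λ (maximalIdeal Λ) isNilpotent_maximalIdeal
  let v : ResidueField Λ →ₐ[(⊥ : Subfield k)] Λ ⧸ maximalIdeal Λ := AlgHom.id _ _
  let z : ↥B' → Λ := fun b' =>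
    if h : ∃ i : S, algebraMap k (ResidueField Λ) ((i : ↥B) : k) = b'.1 then
      algebraMap k Λ ((h.choose : ↥B) : k)
    else (Ideal.Quotient.mk_surjective (I := maximalIdeal Λ) b'.1).choose
  have hz : ∀ b' : ↥B', Ideal.Quotient.mk (maximalIdeal Λ) (z b') = v b'.1 := by
    intro b'
    show Ideal.Quotient.mk (maximalIdeal Λ) (z b') = b'.1
    by_cases h : ∃ i : S, algebraMap k (ResidueField Λ) ((i : ↥B) : k) = b'.1
    · simp only [z, dif_pos h]
      exact h.choose_spec
    · simp only [z, dif_neg h]
      exact (Ideal.Quotient.mk_surjective (I := maximalIdeal Λ) b'.1).choose_spec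
  obtain ⟨w, ⟨hw1, hw2⟩, -⟩ := hlift v z hz
  have hres : ∀ c, residue Λ (w c) = c := fun c => congr($hw1 c)
  have hwS : ∀ i : S, w (algebraMap k (ResidueField Λ) ((i : ↥B) : k)) =
      algebraMap k Λ ((i : ↥B) : k) := by
    intro i
    have h : ∃ i' : S, algebraMap k (ResidueField Λ) ((i' : ↥B) : k) =
        algebraMap k (ResidueField Λ) ((i : ↥B) : k) := ⟨i, rfl⟩
    have h1 := hw2 ⟨_, hSB' ⟨i, rfl⟩⟩
    rw [h1]
    simp only [z, dif_pos h]
    have h2 : h.choose = i := hinj h.choose_spec
    rw [h2]
  haveI : Fintype ↥Sᶜ := Fintype.ofFinite _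
  refine ⟨w.toRingHom, hres, Finset.univ.image (fun j : ↥Sᶜ => (((j : ↥B)) : k)), ?_⟩
  intro S' h1 h2
  obtain ⟨n, hn⟩ := isNilpotent_maximalIdeal (Λ := Λ)
  have hR : Subring.comap (algebraMap k Λ) S' = ⊤ := by
    rw [eq_top_iff, ← closure_pow_union_eq_top p (Subtype.val : B → k) hB.2 n, Subring.closure_le]
    rintro _ (⟨c, rfl⟩ | ⟨j, rfl⟩)
    · show algebraMap k Λ (c ^ p ^ n) ∈ S'
      have h3 : algebraMap k Λ c - w (algebraMap k (ResidueField Λ) c) ∈ maximalIdeal Λ := by
        rw [← Ideal.Quotient.eq_zero_iff_mem (I := maximalIdeal Λ), map_sub, sub_eq_zero]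
        exact (hres _).symm
      have h4 : (algebraMap k Λ c - w (algebraMap k (ResidueField Λ) c)) ^ p ^ n = 0 := by
        have h5 := Ideal.pow_mem_pow h3 (p ^ n)
        have h6 : maximalIdeal Λ ^ p ^ n ≤ maximalIdeal Λ ^ n :=
          Ideal.pow_le_pow_right (Nat.lt_pow_self hpp.out.one_lt).le
        have h7 := h6 h5
        rw [hn] at h7
        exact h7
      rw [sub_pow_char_pow, sub_eq_zero] at h4
      rw [map_pow, h4]
      exact S'.pow_mem (h1 c) _
    · show algebraMap k Λ (j : k) ∈ S'
      by_cases hj : j ∈ S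
      · rw [← hwS ⟨j, hj⟩]
        exact h1 _
      · apply h2
        rw [Finset.mem_image]
        exact ⟨⟨j, hj⟩, Finset.mem_univ _, rfl⟩
  intro a
  have : a ∈ Subring.comap (algebraMap k Λ) S' := by rw [hR]; exact Subring.mem_top a
  exact this

end A2

end Groth.Agent.H5.Art
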