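import Mathlib

set_option autoImplicit false

namespace Groth.Agent.H5.Art

/-- **Nakayama for subrings and nilpotent ideals**: a subring `C` of `A` containing generators of a
nilpotent ideal `𝔫` and surjecting onto `A ⧸ 𝔫` is all of `A`. -/
theorem subring_eq_top_of_nilpotent {A : Type*} [CommRing A] (C : Subring A) (𝔫 : Ideal A)
    (hnil : IsNilpotent 𝔫) {ι : Type*} (g : ι → A) (hg : ∀ i, g i ∈ C)
    (hspan : Ideal.span (Set.range g) = 𝔫) (hC : ∀ a : A, ∃ c ∈ C, a - c ∈ 𝔫) : C = ⊤ := by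
  have P : ∀ j : ℕ, ∀ y ∈ 𝔫 ^ j, ∃ c ∈ C, y - c ∈ 𝔫 ^ (j + 1) := by
    intro j
    induction j with
    | zero =>
      intro y _
      obtain ⟨c, hc, h⟩ := hC y
      exact ⟨c, hc, by rwa [zero_add, pow_one]⟩
    | succ j ih =>
      -- products
      have Q : ∀ s ∈ 𝔫, ∀ r ∈ 𝔫 ^ j, ∃ c ∈ C, r * s - c ∈ 𝔫 ^ (j + 1 + 1) := by
        intro s hs
        rw [← hspan] at hs
        induction hs using Submodule.span_induction with
        | mem s hs =>
          obtain ⟨i, rfl⟩ := hs
          intro r hr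
          obtain ⟨c', hc', hz⟩ := ih r hr
          refine ⟨c' * g i, C.mul_mem hc' (hg i), ?_⟩
          have : r * g i - c' * g i = (r - c') * g i := by ring
          rw [this, pow_succ _ (j + 1)]
          apply Ideal.mul_mem_mul hz
          rw [← hspan]
          exact Ideal.subset_span ⟨i, rfl⟩
        | zero =>
          intro r _
          exact ⟨0, C.zero_mem, by simp⟩
        | add s₁ s₂ _ _ h₁ h₂ =>
          intro r hr
          obtain ⟨c₁, hc₁, hz₁⟩ := h₁ r hr
          obtain ⟨c₂, hc₂, hz₂⟩ := h₂ r hr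
          refine ⟨c₁ + c₂, C.add_mem hc₁ hc₂, ?_⟩
          have : r * (s₁ + s₂) - (c₁ + c₂) = (r * s₁ - c₁) + (r * s₂ - c₂) := by ring
          rw [this]
          exact Ideal.add_mem _ hz₁ hz₂
        | smul a s _ h =>
          intro r hr
          obtain ⟨c, hc, hz⟩ := h (r * a) (Ideal.mul_mem_right a _ hr)
          refine ⟨c, hc, ?_⟩
          have : r * (a • s) - c = r * a * s - c := by rw [smul_eq_mul]; ring
          rw [this]
          exact hz
      intro y hy
      rw [pow_succ] at hy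
      refine Submodule.mul_induction_on hy (fun r hr s hs => Q s hs r hr) ?_
      rintro y₁ y₂ ⟨c₁, hc₁, hz₁⟩ ⟨c₂, hc₂, hz₂⟩
      refine ⟨c₁ + c₂, C.add_mem hc₁ hc₂, ?_⟩
      have : y₁ + y₂ - (c₁ + c₂) = (y₁ - c₁) + (y₂ - c₂) := by ring
      rw [this]
      exact Ideal.add_mem _ hz₁ hz₂
  have R : ∀ j : ℕ, ∀ a : A, ∃ c ∈ C, a - c ∈ 𝔫 ^ j := by
    intro j
    induction j with
    | zero =>
      intro a
      exact ⟨0, C.zero_mem, by rw [pow_zero, Ideal.one_eq_top]; exact Submodule.mem_top⟩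
    | succ j ih =>
      intro a
      obtain ⟨c, hc, h⟩ := ih a
      obtain ⟨c', hc', h'⟩ := P j _ h
      refine ⟨c + c', C.add_mem hc hc', ?_⟩
      have : a - (c + c') = a - c - c' := by ring
      rw [this]
      exact h'
  obtain ⟨n, hn⟩ := hnil
  rw [eq_top_iff]
  intro a _
  obtain ⟨c, hc, h⟩ := R n a
  rw [hn] at h
  have : a = c := sub_eq_zero.mp h
  rw [this]
  exact hc

end Groth.Agent.H5.Art
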