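import Mathlib

set_option autoImplicit false

open TensorProduct

namespace Groth.Agent.H5.Art

/-- if an `F`-basis of `A` maps to a `K`-basis of `Λ` (`F ⊆ K` fields), then `Λ ≅ A ⊗_F K` is flat
over `A`. -/
theorem flat_of_bases {F K A Λ : Type*} [Field F] [Field K] [Algebra F K] [CommRing A] [CommRing Λ]
    [Algebra F A] [Algebra A Λ] [Algebra K Λ] [Algebra F Λ] [IsScalarTower F A Λ]
    [IsScalarTower F K Λ] {ι : Type*} (b : Module.Basis ι F A) (b' : Module.Basis ι K Λ)
    (h : ∀ i, b' i = algebraMap A Λ (b i)) : Module.Flat A Λ := by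
  let c := Module.Basis.ofVectorSpace F K
  let φ : A ⊗[F] K →ₗ[A] Λ := ((Algebra.linearMap K Λ).restrictScalars F).liftBaseChange A
  let e : A ⊗[F] K ≃ₗ[F] Λ :=
    (b.tensorProduct c).equiv (c.smulTower b') (Equiv.prodComm ι _)
  have hφe : φ.restrictScalars F = e.toLinearMap := by
    apply (b.tensorProduct c).ext
    rintro ⟨i, j⟩
    rw [LinearEquiv.coe_coe, Module.Basis.equiv_apply, Module.Basis.tensorProduct_apply,
      Module.Basis.smulTower_apply]
    show φ (b i ⊗ₜ c j) = c j • b' i
    rw [LinearMap.liftBaseChange_tmul, h, Algebra.smul_def, Algebra.smul_def, mul_comm]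
    rfl
  have hbij : Function.Bijective φ := by
    have : (φ : A ⊗[F] K → Λ) = e := by
      funext x
      exact congr($hφe x)
    rw [this]
    exact e.bijective
  exact Module.Flat.of_linearEquiv (LinearEquiv.ofBijective φ hbij).symm

end Groth.Agent.H5.Art
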