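import Mathlib

set_option autoImplicit false

namespace Groth.Agent.H5.Art

section D
variable {K Λ : Type*} [Field K] [CommRing Λ] [Algebra K Λ] {ι : Type*} [Fintype ι]
  (B : Module.Basis ι K Λ) {κ : Type*} (lam : κ → Λ) (F : Subfield K)

/-- the coordinates of `x` lie in the subfield `F`. -/
def InF (x : Λ) : Prop := ∀ c, B.repr x c ∈ F

variable {B F}

theorem inF_zero : InF B F 0 := fun c => by
  rw [map_zero, Finsupp.zero_apply]; exact F.zero_mem

theorem inF_add {x y : Λ} (hx : InF B F x) (hy : InF B F y) : InF B F (x + y) := fun c => by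
  rw [map_add, Finsupp.add_apply]; exact F.add_mem (hx c) (hy c)

theorem inF_neg {x : Λ} (hx : InF B F x) : InF B F (-x) := fun c => by
  rw [map_neg, Finsupp.neg_apply]; exact F.neg_mem (hx c)

theorem inF_smul {f : K} (hf : f ∈ F) {x : Λ} (hx : InF B F x) : InF B F (f • x) := fun c => by
  rw [map_smul, Finsupp.smul_apply, smul_eq_mul]; exact F.mul_mem hf (hx c)

theorem inF_sum {α : Type*} (s : Finset α) (g : α → Λ) (hg : ∀ a ∈ s, InF B F (g a)) :
    InF B F (∑ a ∈ s, g a) := by
  classical
  induction s using Finset.induction_on with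
  | empty => rw [Finset.sum_empty]; exact inF_zero
  | insert a s ha ih =>
    rw [Finset.sum_insert ha]
    exact inF_add (hg a (Finset.mem_insert_self a s))
      (ih (fun b hb => hg b (Finset.mem_insert_of_mem hb)))

theorem inF_basis (a : ι) : InF B F (B a) := fun c => by
  classical
  rw [Module.Basis.repr_self, Finsupp.single_apply]
  split_ifs
  · exact F.one_mem
  · exact F.zero_mem

variable (hF1 : ∀ i a c, B.repr (lam i * B a) c ∈ F)

include hF1 in
theorem inF_lam_mul (i : κ) {y : Λ} (hy : InF B F y) : InF B F (lam i * y) := by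
  have h1 : lam i * y = ∑ a, B.repr y a • (lam i * B a) := by
    conv_lhs => rw [← B.sum_repr y, Finset.mul_sum]
    apply Finset.sum_congr rfl
    intro a _
    rw [mul_smul_comm]
  rw [h1]
  exact inF_sum _ _ (fun a _ => inF_smul (hy a) (hF1 i a))

include hF1 in
theorem inF_closure_mul {m : Λ} (hm : m ∈ Submonoid.closure (Set.range lam)) :
    ∀ {y : Λ}, InF B F y → InF B F (m * y) := by
  induction hm using Submonoid.closure_induction with
  | mem m hm =>
    obtain ⟨i, rfl⟩ := hm
    intro y hy
    exact inF_lam_mul lam hF1 i hy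
  | one =>
    intro y hy
    rwa [one_mul]
  | mul m₁ m₂ _ _ h₁ h₂ =>
    intro y hy
    rw [mul_assoc]
    exact h₁ (h₂ hy)

variable (hB : ∀ a, B a ∈ Submonoid.closure (Set.range lam))

include hF1 hB in
theorem inF_mul {x y : Λ} (hx : InF B F x) (hy : InF B F y) : InF B F (x * y) := by
  have h1 : x * y = ∑ a, B.repr x a • (B a * y) := by
    conv_lhs => rw [← B.sum_repr x, Finset.sum_mul]
    apply Finset.sum_congr rfl
    intro a _
    rw [smul_mul_assoc]
  rw [h1]
  exact inF_sum _ _ (fun a _ => inF_smul (hx a) (inF_closure_mul lam hF1 (hB a) hy))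

variable (hF0 : InF B F 1)

include hF0 in
theorem inF_algebraMap {f : K} (hf : f ∈ F) : InF B F (algebraMap K Λ f) := by
  rw [Algebra.algebraMap_eq_smul_one]
  exact inF_smul hf hF0

include hF0 hF1 in
theorem inF_lam (i : κ) : InF B F (lam i) := by
  have := inF_lam_mul lam hF1 i hF0
  rwa [mul_one] at this

variable (B F) in
/-- the subring of elements with coordinates in `F`. -/
def subringF (hF1 : ∀ i a c, B.repr (lam i * B a) c ∈ F)
    (hB : ∀ a, B a ∈ Submonoid.closure (Set.range lam)) (hF0 : InF B F 1) : Subring Λ where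
  carrier := {x | InF B F x}
  mul_mem' := fun hx hy => inF_mul lam hF1 hB hx hy
  one_mem' := hF0
  add_mem' := fun hx hy => inF_add hx hy
  zero_mem' := inF_zero
  neg_mem' := fun hx => inF_neg hx

theorem mem_subringF (x : Λ) : x ∈ subringF B lam F hF1 hB hF0 ↔ InF B F x := Iff.rfl

include hB in
/-- the residue of an element with coordinates in `F` lies in `F`. -/
theorem rho_mem (ρ : Λ →+* K) (hρ : ∀ c, ρ (algebraMap K Λ c) = c) (hlam : ∀ i, ρ (lam i) = 0)
    {x : Λ} (hx : InF B F x) : ρ x ∈ F := by
  have h0 : ∀ m ∈ Submonoid.closure (Set.range lam), ρ m ∈ F := by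
    intro m hm
    induction hm using Submonoid.closure_induction with
    | mem m hm =>
      obtain ⟨i, rfl⟩ := hm
      rw [hlam]; exact F.zero_mem
    | one => rw [map_one]; exact F.one_mem
    | mul m₁ m₂ _ _ h₁ h₂ => rw [map_mul]; exact F.mul_mem h₁ h₂
  rw [← B.sum_repr x, map_sum]
  apply Subfield.sum_mem
  intro a _
  rw [Algebra.smul_def, map_mul, hρ]
  exact F.mul_mem (hx a) (h0 _ (hB a))

end D

end Groth.Agent.H5.Art
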