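import Mathlib
import Groth.Agent.Lib.Helper5.Art.C
import Groth.Agent.Lib.Helper5.Art.D

set_option autoImplicit false
universe u

open IsLocalRing

namespace Groth.Agent.H5.Art

section E
variable {k K Λ : Type*} [Field k] [Field K] [CommRing Λ] [Algebra k Λ] [Algebra K Λ]
  [IsLocalRing Λ] {ι : Type*} [Fintype ι]
  (B : Module.Basis ι K Λ) {κ : Type*} (lam : κ → Λ) (F : Subfield K) (A : Subalgebra k Λ)

omit [Fintype ι] [IsLocalRing Λ] [Field K] [Algebra K Λ] in
theorem closure_cases {m : Λ} (hm : m ∈ Submonoid.closure (Set.range lam)) :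
    m = 1 ∨ ∃ i m', m' ∈ Submonoid.closure (Set.range lam) ∧ m = lam i * m' := by
  induction hm using Submonoid.closure_induction with
  | mem m hm =>
    obtain ⟨i, rfl⟩ := hm
    exact Or.inr ⟨i, 1, Submonoid.one_mem _, (mul_one _).symm⟩
  | one => exact Or.inl rfl
  | mul m₁ m₂ _ hm₂ h₁ h₂ =>
    rcases h₁ with rfl | ⟨i, m', hm', rfl⟩
    · rw [one_mul]; exact h₂
    · exact Or.inr ⟨i, m' * m₂, Submonoid.mul_mem _ hm' hm₂, mul_assoc _ _ _⟩

/-- **Structure of the subalgebra of elements with coordinates in `F`**. -/
theorem structure_of_inF (hA : ∀ x, x ∈ A ↔ InF B F x) (hF0 : InF B F 1)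
    (hF1 : ∀ i a c, B.repr (lam i * B a) c ∈ F)
    (hlamspan : Ideal.span (Set.range lam) = maximalIdeal Λ)
    (hB : ∀ a, B a ∈ Submonoid.closure (Set.range lam)) :
    ∃ (_ : IsLocalRing A), IsArtinianRing A ∧ Module.Flat A Λ ∧
      (maximalIdeal A).map (algebraMap A Λ) = maximalIdeal Λ ∧
      (∀ x : A, x ∈ maximalIdeal A ↔ (x : Λ) ∈ maximalIdeal Λ) ∧
      ∀ g : κ → A, (∀ i, (g i : Λ) = lam i) → Ideal.span (Set.range g) = maximalIdeal A := by
  classical
  let φ : F →+* A :=
    { toFun := fun f => ⟨algebraMap K Λ f, (hA _).mpr (inF_algebraMap hF0 f.2)⟩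
      map_one' := Subtype.ext (map_one _)
      map_mul' := fun a b => Subtype.ext (map_mul _ _ _)
      map_zero' := Subtype.ext (map_zero _)
      map_add' := fun a b => Subtype.ext (map_add _ _ _) }
  letI : Algebra F A := φ.toAlgebra
  haveI : IsScalarTower F A Λ := IsScalarTower.of_algebraMap_eq (fun f => rfl)
  haveI : IsScalarTower F K Λ := IsScalarTower.of_algebraMap_eq (fun f => rfl)
  let bA : ι → A := fun a => ⟨B a, (hA _).mpr (inF_basis a)⟩
  have hli : LinearIndependent F bA := by
    have h1 : LinearIndependent F (B : ι → Λ) :=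
      B.linearIndependent.restrict_scalars (by
        intro f g hfg
        have h2 : (f : K) * 1 = (g : K) * 1 := hfg
        rw [mul_one, mul_one] at h2
        exact Subtype.ext h2)
    exact LinearIndependent.of_comp ((IsScalarTower.toAlgHom F A Λ).toLinearMap) h1
  have hsmul : ∀ (f : F) (y : A), ((f • y : A) : Λ) = (f : K) • (y : Λ) := by
    intro f y
    show ((φ f * y : A) : Λ) = _
    rw [Algebra.smul_def]
    rfl
  have hsp : ⊤ ≤ Submodule.span F (Set.range bA) := by
    intro x _
    have hx := (hA _).mp x.2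
    have h1 : x = ∑ a, (⟨B.repr x a, hx a⟩ : F) • bA a := by
      apply Subtype.ext
      rw [AddSubmonoidClass.coe_finsetSum]
      conv_lhs => rw [← B.sum_repr (x : Λ)]
      apply Finset.sum_congr rfl
      intro a _
      rw [hsmul]
    rw [h1]
    exact Submodule.sum_mem _ (fun a _ => Submodule.smul_mem _ _ (Submodule.subset_span ⟨a, rfl⟩))
  let b : Module.Basis ι F A := Module.Basis.mk hli hsp
  have hflat : Module.Flat A Λ :=
    flat_of_bases (F := F) (K := K) b B (fun i => by rw [Module.Basis.mk_apply]; rfl)
  haveI : Module.Finite F A := Module.Finite.of_basis b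
  haveI hart : IsArtinianRing A := IsArtinianRing.of_finite F A
  have hunit : ∀ x : A, IsUnit x ↔ IsUnit (x : Λ) := by
    intro x
    constructor
    · intro h
      exact h.map A.val
    · intro h
      apply IsArtinianRing.isUnit_of_mem_nonZeroDivisors
      rw [mem_nonZeroDivisors_iff_right]
      intro y hy
      apply Subtype.ext
      have h2 : (y : Λ) * (x : Λ) = 0 := congrArg Subtype.val hy
      exact (h.mul_left_eq_zero).mp h2
  have hloc : IsLocalRing A := by
    apply IsLocalRing.of_nonunits_add
    intro a b ha hb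
    rw [mem_nonunits_iff, hunit] at ha hb ⊢
    exact IsLocalRing.nonunits_add ha hb
  refine ⟨hloc, hart, hflat, ?_⟩
  have hmax : ∀ x : A, x ∈ maximalIdeal A ↔ (x : Λ) ∈ maximalIdeal Λ := by
    intro x
    rw [mem_maximalIdeal, mem_maximalIdeal, mem_nonunits_iff, mem_nonunits_iff, hunit]
  refine ⟨?_, hmax, ?_⟩
  rotate_left
  · intro g hg
    have hgm : ∀ i, g i ∈ maximalIdeal A := by
      intro i
      rw [hmax, hg, ← hlamspan]
      exact Ideal.subset_span ⟨i, rfl⟩
    apply le_antisymm
    · rw [Ideal.span_le]
      rintro _ ⟨i, rfl⟩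
      exact hgm i
    · -- decomposition
      have hdec : ∀ a : ι, B a = 1 ∨ bA a ∈ Ideal.span (Set.range g) := by
        intro a
        rcases closure_cases lam (hB a) with h1 | ⟨i, m', hm', h1⟩
        · exact Or.inl h1
        · right
          have hm'A : m' ∈ A := by
            rw [hA]
            have := inF_closure_mul lam hF1 hm' hF0
            rwa [mul_one] at this
          have h2 : bA a = g i * ⟨m', hm'A⟩ := by
            apply Subtype.ext
            show B a = (g i : Λ) * m'
            rw [hg, h1]
          rw [h2]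
          exact Ideal.mul_mem_right _ _ (Ideal.subset_span ⟨i, rfl⟩)
      intro x hx
      have hxF := (hA _).mp x.2
      have h1 : x = ∑ a, (⟨B.repr x a, hxF a⟩ : F) • bA a := by
        apply Subtype.ext
        rw [AddSubmonoidClass.coe_finsetSum]
        conv_lhs => rw [← B.sum_repr (x : Λ)]
        apply Finset.sum_congr rfl
        intro a _
        rw [hsmul]
      set f : F := ∑ a, (if B a = 1 then (⟨B.repr x a, hxF a⟩ : F) else 0) with hf
      have h2 : x - algebraMap F A f ∈ Ideal.span (Set.range g) := by
        have h3 : x - algebraMap F A f = ∑ a, ((⟨B.repr x a, hxF a⟩ : F) • bA a -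
            algebraMap F A (if B a = 1 then (⟨B.repr x a, hxF a⟩ : F) else 0)) := by
          rw [Finset.sum_sub_distrib, ← map_sum, ← h1]
        rw [h3]
        apply Ideal.sum_mem
        intro a _
        rcases hdec a with h4 | h4
        · rw [if_pos h4]
          have h5 : bA a = 1 := Subtype.ext h4
          rw [h5, Algebra.smul_def, mul_one, sub_self]
          exact Ideal.zero_mem _
        · by_cases h5 : B a = 1
          · rw [if_pos h5]
            have h6 : bA a = 1 := Subtype.ext h5
            rw [h6, Algebra.smul_def, mul_one, sub_self]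
            exact Ideal.zero_mem _
          · rw [if_neg h5, map_zero, sub_zero, Algebra.smul_def]
            exact Ideal.mul_mem_left _ _ h4
      have h6 : algebraMap F A f ∈ maximalIdeal A := by
        have h7 : algebraMap F A f = x - (x - algebraMap F A f) := by ring
        rw [h7]
        exact Ideal.sub_mem _ hx (Ideal.span_le.mpr (by rintro _ ⟨i, rfl⟩; exact hgm i) h2)
      have h8 : f = 0 := by
        by_contra hne
        have h9 : IsUnit (algebraMap F A f) := (IsUnit.mk0 f hne).map (algebraMap F A)
        exact (mem_maximalIdeal _).mp h6 h9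
      rw [h8, map_zero, sub_zero] at h2
      exact h2
  apply le_antisymm
  · rw [Ideal.map_le_iff_le_comap]
    intro x hx
    exact (hmax x).mp hx
  · rw [← hlamspan, Ideal.span_le]
    rintro _ ⟨i, rfl⟩
    have hi : lam i ∈ A := (hA _).mpr (inF_lam lam hF1 hF0 i)
    have h1 : (⟨lam i, hi⟩ : A) ∈ maximalIdeal A := by
      rw [hmax]
      show lam i ∈ maximalIdeal Λ
      rw [← hlamspan]
      exact Ideal.subset_span ⟨i, rfl⟩
    exact Ideal.mem_map_of_mem (algebraMap A Λ) h1

end E

end Groth.Agent.H5.Art
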