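import Mathlib
import Groth.Agent.Lib.Helper5.Art.B

set_option autoImplicit false
universe u

open IsLocalRing

namespace Groth.Agent.H5.Art

section frac
variable (k : Type*) {A : Type*} [CommRing k] [CommRing A] [Algebra k A] (s : Set A)

/-- the subring of fractions `x / t` with `x, t ∈ k[s]` and `t` a unit of `A`. -/
def fracSubring : Subring A where
  carrier := {c | ∃ t ∈ Algebra.adjoin k s, IsUnit t ∧ c * t ∈ Algebra.adjoin k s}
  mul_mem' := by
    rintro c c' ⟨t, ht, hu, hc⟩ ⟨t', ht', hu', hc'⟩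
    refine ⟨t * t', Subalgebra.mul_mem _ ht ht', hu.mul hu', ?_⟩
    have : c * c' * (t * t') = (c * t) * (c' * t') := by ring
    rw [this]
    exact Subalgebra.mul_mem _ hc hc'
  one_mem' := ⟨1, Subalgebra.one_mem _, isUnit_one, by rw [mul_one]; exact Subalgebra.one_mem _⟩
  add_mem' := by
    rintro c c' ⟨t, ht, hu, hc⟩ ⟨t', ht', hu', hc'⟩
    refine ⟨t * t', Subalgebra.mul_mem _ ht ht', hu.mul hu', ?_⟩
    have : (c + c') * (t * t') = (c * t) * t' + (c' * t') * t := by ring
    rw [this]
    exact Subalgebra.add_mem _ (Subalgebra.mul_mem _ hc ht') (Subalgebra.mul_mem _ hc' ht)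
  zero_mem' := ⟨1, Subalgebra.one_mem _, isUnit_one, by rw [mul_one]; exact Subalgebra.zero_mem _⟩
  neg_mem' := by
    rintro c ⟨t, ht, hu, hc⟩
    refine ⟨t, ht, hu, ?_⟩
    rw [neg_mul]
    exact Subalgebra.neg_mem _ hc

variable {k s}

theorem mem_fracSubring_of_mem_adjoin {x : A} (hx : x ∈ Algebra.adjoin k s) :
    x ∈ fracSubring k s :=
  ⟨1, Subalgebra.one_mem _, isUnit_one, by rwa [mul_one]⟩

theorem inv_mem_fracSubring {c : A} (hc : c ∈ fracSubring k s) (hu : IsUnit c) :
    (↑(hu.unit⁻¹) : A) ∈ fracSubring k s := by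
  obtain ⟨t, ht, hut, hct⟩ := hc
  refine ⟨c * t, hct, hu.mul hut, ?_⟩
  rw [← mul_assoc, IsUnit.val_inv_mul, one_mul]
  exact ht

end frac

/-- a local `k`-algebra with nilpotent maximal ideal generated by elements of a finite set `s`,
whose residue classes are represented by fractions of `k[s]`, is essentially of finite type. -/
theorem essFiniteType_of_local_nilpotent {k A : Type*} [CommRing k] [CommRing A] [Algebra k A]
    [IsLocalRing A] (hnil : IsNilpotent (maximalIdeal A)) (s : Finset A) {κ : Type*} (g : κ → A)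
    (hg : ∀ i, g i ∈ s) (hspan : Ideal.span (Set.range g) = maximalIdeal A)
    (hres : ∀ a : A, ∃ c ∈ fracSubring k (s : Set A), a - c ∈ maximalIdeal A) :
    Algebra.EssFiniteType k A := by
  have h := subring_eq_top_of_nilpotent (fracSubring k (s : Set A)) (maximalIdeal A) hnil g
    (fun i => mem_fracSubring_of_mem_adjoin (Algebra.subset_adjoin (hg i))) hspan hres
  rw [Algebra.essFiniteType_iff]
  refine ⟨s, fun a => ?_⟩
  have ha : a ∈ fracSubring k (s : Set A) := by rw [h]; exact Subring.mem_top a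
  exact ha

end Groth.Agent.H5.Art
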